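import Mathlib

/-!
Automorphisms of odd order of the monomial group with determinant `±1` in dimension two.
-/

set_option autoImplicit false

namespace CfsgLib.MonomialT

section Abstract
variable {G : Type*} [Group G]

theorem pow_apply_fixed {φ : MulAut G} {x : G} (h : φ x = x) : ∀ n : ℕ, (φ ^ n) x = x
  | 0 => rfl
  | n + 1 => by rw [pow_succ, MulAut.mul_apply, h, pow_apply_fixed h n]

/-- An automorphism of odd order whose square fixes a point fixes it. -/
theorem fixed_of_sq_fixed {φ : MulAut G} {r : ℕ} (hr : Odd r) (hφ : φ ^ r = 1) {x : G}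
    (h : φ (φ x) = x) : φ x = x := by
  obtain ⟨k, rfl⟩ := hr
  have h2 : (φ ^ 2) x = x := by rw [pow_two, MulAut.mul_apply, h]
  have := congrArg (fun ψ : MulAut G => ψ x) hφ
  rw [pow_succ', pow_mul] at this
  simpa [pow_apply_fixed h2 k] using this

/-- An automorphism of odd order moving a point by a fixed `2`-element fixes it. -/
theorem fixed_of_translate {φ : MulAut G} {r : ℕ} (hr : Odd r) (hφ : φ ^ r = 1) {x a : G}
    (ha : φ a = a) (hx : φ x = a * x) {N : ℕ} (ha2 : a ^ 2 ^ N = 1) : φ x = x := by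
  have h : ∀ n : ℕ, (φ ^ n) x = a ^ n * x := by
    intro n
    induction n with
    | zero => simp
    | succ n ih =>
      rw [pow_succ', MulAut.mul_apply, ih, map_mul, map_pow, ha, hx, pow_succ, mul_assoc]
  have h1 : a ^ r = 1 := by
    have := h r
    rw [hφ, MulAut.one_apply] at this
    exact right_eq_mul.1 this
  have hc : Nat.Coprime r (2 ^ N) := (Nat.coprime_two_right.2 hr).pow_right _
  have : a = 1 := by
    have := pow_gcd_eq_one.2 ⟨h1, ha2⟩
    rwa [hc.gcd_eq_one, pow_one] at this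
  rw [hx, this, one_mul]

end Abstract

/-- An element of `2`-power order fixed by an odd power map is fixed by the first power. -/
theorem pow_eq_of_pow_pow_eq {G : Type*} [Group G] [Finite G] {g : G} {m i r : ℕ}
    (hg : orderOf g = 2 ^ m) (hr : Odd r) (h : g ^ i ^ r = g) : g ^ i = g := by
  conv_rhs at h => rw [← pow_one g]
  conv_rhs => rw [← pow_one g]
  rw [pow_eq_pow_iff_modEq, hg, ← ZMod.natCast_eq_natCast_iff] at h ⊢
  push_cast at h ⊢
  rcases Nat.eq_zero_or_pos m with rfl | hm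
  · haveI : Subsingleton (ZMod (2 ^ 0)) := by rw [pow_zero]; infer_instance
    exact Subsingleton.elim _ _
  haveI : NeZero (2 ^ m) := ⟨by positivity⟩
  have hu : IsUnit (i : ZMod (2 ^ m)) := IsUnit.of_pow_eq_one h hr.pos.ne'
  obtain ⟨u, hu⟩ := hu
  rw [← hu] at h ⊢
  have h1 : u ^ r = 1 := Units.ext (by simpa using h)
  have h2 : u ^ (2 ^ (m - 1)) = 1 := by
    have := ZMod.pow_totient u
    rwa [Nat.totient_prime_pow Nat.prime_two hm, show (2 : ℕ) - 1 = 1 by norm_num, mul_one] at this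
  have h3 := pow_gcd_eq_one.2 ⟨h1, h2⟩
  rw [((Nat.coprime_two_right.2 hr).pow_right _).gcd_eq_one, pow_one] at h3
  simp [h3]

variable {q : ℕ}

/-- The map `(x, y) ↦ (a x, b y)`. -/
def D (a b : (ZMod q)ˣ) : (Fin 2 → ZMod q) ≃ₗ[ZMod q] (Fin 2 → ZMod q) where
  toFun v := ![(a : ZMod q) * v 0, (b : ZMod q) * v 1]
  invFun v := ![((a⁻¹ : (ZMod q)ˣ) : ZMod q) * v 0, ((b⁻¹ : (ZMod q)ˣ) : ZMod q) * v 1]
  map_add' u v := by funext i; fin_cases i <;> simp [mul_add]
  map_smul' c v := by funext i; fin_cases i <;> simp [mul_left_comm]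
  left_inv v := by funext i; fin_cases i <;> simp
  right_inv v := by funext i; fin_cases i <;> simp

/-- The map `(x, y) ↦ (b y, a x)`. -/
def W (a b : (ZMod q)ˣ) : (Fin 2 → ZMod q) ≃ₗ[ZMod q] (Fin 2 → ZMod q) where
  toFun v := ![(b : ZMod q) * v 1, (a : ZMod q) * v 0]
  invFun v := ![((a⁻¹ : (ZMod q)ˣ) : ZMod q) * v 1, ((b⁻¹ : (ZMod q)ˣ) : ZMod q) * v 0]
  map_add' u v := by funext i; fin_cases i <;> simp [mul_add]
  map_smul' c v := by funext i; fin_cases i <;> simp [mul_left_comm]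
  left_inv v := by funext i; fin_cases i <;> simp
  right_inv v := by funext i; fin_cases i <;> simp

theorem D_apply (a b : (ZMod q)ˣ) (v : Fin 2 → ZMod q) :
    D a b v = ![(a : ZMod q) * v 0, (b : ZMod q) * v 1] := rfl

theorem W_apply (a b : (ZMod q)ˣ) (v : Fin 2 → ZMod q) :
    W a b v = ![(b : ZMod q) * v 1, (a : ZMod q) * v 0] := rfl

theorem D_mul (a b a' b' : (ZMod q)ˣ) : D a b * D a' b' = D (a * a') (b * b') :=
  LinearEquiv.ext fun v => by simp [D_apply, mul_assoc]

theorem D_mul_W (a b a' b' : (ZMod q)ˣ) : D a b * W a' b' = W (b * a') (a * b') :=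
  LinearEquiv.ext fun v => by simp [D_apply, W_apply, mul_assoc]

theorem W_mul (a b a' b' : (ZMod q)ˣ) : W a b * W a' b' = D (b * a') (a * b') :=
  LinearEquiv.ext fun v => by simp [D_apply, W_apply, mul_assoc]

theorem D_one : D (1 : (ZMod q)ˣ) 1 = 1 :=
  LinearEquiv.ext fun v => by funext i; fin_cases i <;> simp [D_apply]

theorem D_pow (a b : (ZMod q)ˣ) : ∀ k : ℕ, D a b ^ k = D (a ^ k) (b ^ k)
  | 0 => by simp [D_one]
  | k + 1 => by rw [pow_succ, D_pow a b k, D_mul, pow_succ, pow_succ]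

theorem D_inj {a b a' b' : (ZMod q)ˣ} : D a b = D a' b' ↔ a = a' ∧ b = b' := by
  refine ⟨fun h => ?_, fun h => by rw [h.1, h.2]⟩
  exact ⟨Units.ext (by simpa [D_apply] using congrFun (LinearEquiv.congr_fun h ![1, 0]) 0),
    Units.ext (by simpa [D_apply] using congrFun (LinearEquiv.congr_fun h ![0, 1]) 1)⟩

theorem W_ne_one [Fact (1 < q)] (a b : (ZMod q)ˣ) : W a b ≠ 1 := fun h => by
  have := congrFun (LinearEquiv.congr_fun h ![1, 0]) 0
  simp [W_apply] at this

/-- The product of the two entries is `±1`. -/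
def Ok (a b : (ZMod q)ˣ) : Prop := a * b = 1 ∨ a * b = -1

theorem Ok.symm {a b : (ZMod q)ˣ} (h : Ok a b) : Ok b a := by
  rwa [Ok, mul_comm b a]

theorem Ok.sq {a b : (ZMod q)ˣ} (h : Ok a b) : (a * b) ^ 2 = 1 := by
  rcases h with h | h <;> simp [h]

theorem W_pow_four {a b : (ZMod q)ˣ} (h : Ok a b) : W a b ^ 4 = 1 := by
  rw [show (4 : ℕ) = 2 * 2 from rfl, pow_mul, pow_two (W a b), W_mul, D_pow, mul_comm b a,
    h.sq, D_one]

variable (T : Subgroup ((Fin 2 → ZMod q) ≃ₗ[ZMod q] (Fin 2 → ZMod q)))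

/-- `T` is exactly the monomial group with product of entries `±1`. -/
def IsT : Prop :=
  ∀ f, f ∈ T ↔ (∃ a b, Ok a b ∧ f = D a b) ∨ (∃ a b, Ok a b ∧ f = W a b)

variable {T}

theorem IsT.D_mem (hT : IsT T) {a b : (ZMod q)ˣ} (h : Ok a b) : D a b ∈ T :=
  (hT _).2 (Or.inl ⟨a, b, h, rfl⟩)

theorem IsT.W_mem (hT : IsT T) {a b : (ZMod q)ˣ} (h : Ok a b) : W a b ∈ T :=
  (hT _).2 (Or.inr ⟨a, b, h, rfl⟩)

theorem IsT.exists_gen [Fact q.Prime] (hT : IsT T) (g : (ZMod q)ˣ)
    (hg : ∀ x, x ∈ Submonoid.powers g) (c d w : T) (hc : c.1 = D g g⁻¹) (hd : d.1 = D 1 (-1))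
    (hw : w.1 = W 1 1) (x : T) :
    ∃ k : ℕ, x = c ^ k ∨ x = c ^ k * d ∨ x = c ^ k * w ∨ x = c ^ k * d * w := by
  have key : ∀ a b, Ok a b → ∃ k : ℕ, D a b = (c ^ k).1 ∨ D a b = (c ^ k * d).1 := by
    intro a b h
    obtain ⟨k, hk⟩ := hg a
    refine ⟨k, ?_⟩
    simp only [Subgroup.coe_mul, SubmonoidClass.coe_pow, hc, hd, D_pow, D_mul, inv_pow, hk,
      mul_one, D_inj, true_and]
    rcases h with h | h
    · exact Or.inl (eq_inv_of_mul_eq_one_right h)
    · refine Or.inr ?_
      rw [← h, ← mul_assoc, inv_mul_cancel, one_mul]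
  rcases (hT x.1).1 x.2 with ⟨a, b, h, hx⟩ | ⟨a, b, h, hx⟩
  · obtain ⟨k, hk | hk⟩ := key a b h
    · exact ⟨k, Or.inl (Subtype.ext (hx.trans hk))⟩
    · exact ⟨k, Or.inr (Or.inl (Subtype.ext (hx.trans hk)))⟩
  · have e : W a b = D b a * w.1 := by rw [hw, D_mul_W]; simp
    obtain ⟨k, hk | hk⟩ := key b a h.symm
    · exact ⟨k, Or.inr (Or.inr (Or.inl (Subtype.ext (by rw [hx, e, hk]; rfl))))⟩
    · exact ⟨k, Or.inr (Or.inr (Or.inr (Subtype.ext (by rw [hx, e, hk]; rfl))))⟩

theorem D_pow_two_pow [Fact q.Prime] {m : ℕ} (hq : q = 2 ^ m + 1) (a b : (ZMod q)ˣ) :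
    D a b ^ 2 ^ m = 1 := by
  have h : ∀ x : (ZMod q)ˣ, x ^ 2 ^ m = 1 := fun x => by
    have h := ZMod.units_pow_card_sub_one_eq_one q x
    have : q - 1 = 2 ^ m := Nat.sub_eq_of_eq_add hq
    rwa [this] at h
  rw [D_pow, h, h, D_one]

/-- The large case: `q = 2 ^ m + 1` with `3 ≤ m`. -/
theorem IsT.trivial_large [Fact q.Prime] (hT : IsT T) {m : ℕ} (hm : 3 ≤ m) (hq : q = 2 ^ m + 1)
    {φ : MulAut T} {r : ℕ} (hr : Odd r) (hφ : φ ^ r = 1) : φ = 1 := by
  obtain ⟨g, hgo⟩ := IsCyclic.exists_ofOrder_eq_natCard (α := (ZMod q)ˣ)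
  have hgen : ∀ x, x ∈ Submonoid.powers g := fun x => by
    rw [mem_powers_iff_mem_zpowers, (Subgroup.zpowers g).eq_top_of_card_eq
      (by rw [Nat.card_zpowers, hgo])]
    trivial
  have hgm : orderOf g = 2 ^ m := by
    rw [hgo, Nat.card_eq_fintype_card, ZMod.card_units]; exact Nat.sub_eq_of_eq_add hq
  have hq2 : 2 < q := by
    have := Nat.pow_le_pow_right (show 0 < 2 by norm_num) hm
    omega
  haveI : Fact (1 < q) := ⟨by omega⟩
  haveI : Fact (2 < q) := ⟨hq2⟩
  have hneg : (-1 : (ZMod q)ˣ) ≠ 1 := fun h => ZMod.neg_one_ne_one (n := q)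
    (by simpa using congrArg Units.val h)
  let c : T := ⟨D g g⁻¹, hT.D_mem (Or.inl (mul_inv_cancel g))⟩
  let d : T := ⟨D 1 (-1), hT.D_mem (Or.inr (one_mul _))⟩
  let w : T := ⟨W 1 1, hT.W_mem (Or.inl (one_mul _))⟩
  let z : T := ⟨D (-1) (-1), hT.D_mem (Or.inl (by simp))⟩
  have hc4 : g ^ 4 ≠ 1 := by
    intro h
    have h4 := orderOf_dvd_of_pow_eq_one h
    rw [hgm] at h4
    have := Nat.le_of_dvd (by norm_num) h4
    have := Nat.pow_le_pow_right (show 0 < 2 by norm_num) hm
    omega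
  have big : ∀ x : T, x ^ 4 ≠ 1 → ∃ a b, Ok a b ∧ x.1 = D a b := fun x hx => by
    rcases (hT x.1).1 x.2 with h | ⟨a, b, h, e⟩
    · exact h
    · exact absurd (Subtype.ext (by rw [SubmonoidClass.coe_pow, e, W_pow_four h]; rfl)) hx
  have hcx : c ^ 4 ≠ 1 := fun h => hc4 (D_inj.1 (by
    have := congrArg Subtype.val h
    rw [SubmonoidClass.coe_pow, D_pow, OneMemClass.coe_one, ← D_one] at this
    exact this)).1
  have himg : ∀ x : T, x ^ 4 ≠ 1 → (φ x) ^ 4 ≠ 1 := fun x hx h => hx (φ.injective (by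
    rw [map_pow, h, map_one]))
  obtain ⟨a, b, hab, hca⟩ := big _ (himg c hcx)
  -- the image of `z`
  have hz : z = c ^ 2 ^ (m - 1) := by
    apply Subtype.ext
    show D (-1) (-1) = (D g g⁻¹) ^ 2 ^ (m - 1)
    have : g ^ 2 ^ (m - 1) = -1 := by
      have h1 : (g ^ 2 ^ (m - 1)) ^ 2 = 1 := by
        rw [← pow_mul, ← pow_succ, show m - 1 + 1 = m by omega, ← hgm, pow_orderOf_eq_one]
      rcases sq_eq_one_iff.1 (by simpa using congrArg Units.val h1 :
        ((g ^ 2 ^ (m - 1) : (ZMod q)ˣ) : ZMod q) ^ 2 = 1) with h | h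
      · exfalso
        have h3 := orderOf_dvd_of_pow_eq_one (Units.ext h : g ^ 2 ^ (m - 1) = 1)
        rw [hgm] at h3
        have := (Nat.pow_dvd_pow_iff_le_right (by norm_num)).1 h3
        omega
      · exact Units.ext (by rw [h]; simp)
    rw [D_pow, inv_pow, this, inv_neg, inv_one]
  have hzne : z ≠ 1 := fun h => hneg (D_inj.1 ((congrArg Subtype.val h).trans D_one.symm)).1
  have hφz : φ z = z := by
    have h1 : (φ z).1 = D (a ^ 2 ^ (m - 1)) (a ^ 2 ^ (m - 1)) := by
      rw [hz, map_pow, SubmonoidClass.coe_pow, hca, D_pow, D_inj]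
      refine ⟨rfl, ?_⟩
      have he : (a * b) ^ 2 ^ (m - 1) = 1 := by
        rw [show m - 1 = (m - 2) + 1 by omega, pow_succ', pow_mul, hab.sq, one_pow]
      have he2 : (a ^ 2 ^ (m - 1)) ^ 2 = 1 := by
        rw [← pow_mul, ← pow_succ, show m - 1 + 1 = m by omega]
        have := (D_inj.1 ((D_pow a b (2 ^ m)).symm.trans ((D_pow_two_pow hq a b).trans D_one.symm))).1
        exact this
      rw [mul_pow] at he
      rw [← mul_left_cancel_iff (a := a ^ 2 ^ (m - 1)), he, ← pow_two, he2]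
    have h2 : (φ z) ^ 2 = 1 := by
      rw [← map_pow]
      have : z ^ 2 = 1 := Subtype.ext (by
        show D (-1) (-1) ^ 2 = 1
        rw [D_pow]; simp [D_one])
      rw [this, map_one]
    have h3 : (a ^ 2 ^ (m - 1)) ^ 2 = 1 := by
      have := congrArg Subtype.val h2
      rw [SubmonoidClass.coe_pow, h1, D_pow, OneMemClass.coe_one, ← D_one] at this
      exact (D_inj.1 this).1
    rcases sq_eq_one_iff.1 (by simpa using congrArg Units.val h3 :
        ((a ^ 2 ^ (m - 1) : (ZMod q)ˣ) : ZMod q) ^ 2 = 1) with h | h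
    · exact absurd (φ.injective ((Subtype.ext (h1.trans (by
        rw [show a ^ 2 ^ (m - 1) = 1 from Units.ext h, D_one]; rfl)) : φ z = 1).trans
        (map_one φ).symm)) hzne
    · exact Subtype.ext (h1.trans (by
        rw [show a ^ 2 ^ (m - 1) = -1 from Units.ext (by rw [h]; simp)]))
  -- the image of `d`
  have hdd : d * d = 1 := Subtype.ext (by
    show D 1 (-1) * D 1 (-1) = 1
    rw [D_mul]; simp [D_one])
  have hdc : Commute d c := Subtype.ext (by
    show D 1 (-1) * D g g⁻¹ = D g g⁻¹ * D 1 (-1)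
    rw [D_mul, D_mul, mul_comm (1 : (ZMod q)ˣ), mul_comm (-1 : (ZMod q)ˣ)])
  have hdimg : φ d = d ∨ φ d = z * d := by
    have h4 : (d * c) ^ 4 ≠ 1 := fun h => hcx (by
      rw [hdc.mul_pow, show (4 : ℕ) = 2 * 2 from rfl, pow_mul, pow_two d, hdd, one_pow,
        one_mul] at h
      exact h)
    obtain ⟨a', b', hab', h'⟩ := big _ (himg _ h4)
    rw [map_mul] at h'
    -- solve for the image of `d`
    have hd1 : (φ d).1 = D (a' * a⁻¹) (b' * b⁻¹) := by
      have : (φ d).1 * D a b = D a' b' := by rw [← hca]; exact h'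
      rw [eq_mul_inv_of_mul_eq this]
      refine mul_inv_eq_of_eq_mul ?_
      rw [D_mul, inv_mul_cancel_right, inv_mul_cancel_right]
    have h2 := congrArg Subtype.val (show φ d * φ d = 1 by rw [← map_mul, hdd, map_one])
    rw [Subgroup.coe_mul, hd1, D_mul, OneMemClass.coe_one, ← D_one, D_inj, ← pow_two,
      ← pow_two] at h2
    have hu : ∀ u : (ZMod q)ˣ, u ^ 2 = 1 → u = 1 ∨ u = -1 := fun u hu => by
      rcases sq_eq_one_iff.1 (by simpa using congrArg Units.val hu : (u : ZMod q) ^ 2 = 1) with h | h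
      · exact Or.inl (Units.ext h)
      · exact Or.inr (Units.ext (by simpa using h))
    have hne1 : φ d ≠ 1 := fun h => by
      have := φ.injective (h.trans (map_one φ).symm)
      exact hneg (D_inj.1 ((congrArg Subtype.val this).trans D_one.symm)).2
    have hnez : φ d ≠ z := fun h => by
      have := φ.injective (h.trans hφz.symm)
      exact hneg (D_inj.1 (congrArg Subtype.val this)).1.symm
    rcases hu _ h2.1 with ha1 | ha1 <;> rcases hu _ h2.2 with hb1 | hb1 <;> rw [ha1, hb1] at hd1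
    · exact absurd (Subtype.ext (hd1.trans D_one)) hne1
    · exact Or.inl (Subtype.ext hd1)
    · exact Or.inr (Subtype.ext (hd1.trans (by
        show _ = D (-1) (-1) * D 1 (-1)
        rw [D_mul]; simp)))
    · exact absurd (Subtype.ext hd1) hnez
  have hd : φ d = d := by
    rcases hdimg with h | h
    · exact h
    · refine fixed_of_sq_fixed hr hφ ?_
      rw [h, map_mul, hφz, h, ← mul_assoc]
      have : z * z = 1 := Subtype.ext (by
        show D (-1) (-1) * D (-1) (-1) = 1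
        rw [D_mul]; simp [D_one])
      rw [this, one_mul]
  -- the image of `c`
  obtain ⟨i, hi⟩ : ∃ i : ℕ, φ c = c ^ i ∨ φ c = c ^ i * d := by
    obtain ⟨i, hi | hi | hi | hi⟩ := hT.exists_gen g hgen c d w rfl rfl rfl (φ c)
    · exact ⟨i, Or.inl hi⟩
    · exact ⟨i, Or.inr hi⟩
    all_goals
      exfalso
      have := hca.symm.trans (congrArg Subtype.val hi)
      simp only [Subgroup.coe_mul, SubmonoidClass.coe_pow, c, d, w, D_pow, D_mul, D_mul_W] at this
      have := congrFun (LinearEquiv.congr_fun this ![1, 0]) 0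
      simp [D_apply, W_apply] at this
  have hit : ∀ n : ℕ, (φ ^ n) c = c ^ i ^ n ∨ (φ ^ n) c = c ^ i ^ n * d := by
    intro n
    induction n with
    | zero => simp
    | succ n ih =>
      have e : φ (c ^ i ^ n) = c ^ i ^ (n + 1) ∨ φ (c ^ i ^ n) = c ^ i ^ (n + 1) * d := by
        rw [map_pow, pow_succ' i n, pow_mul]
        rcases hi with h | h <;> rw [h]
        · exact Or.inl rfl
        · rw [((hdc.symm.pow_left i)).mul_pow]
          have hdpow : d ^ i ^ n = 1 ∨ d ^ i ^ n = d := by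
            rcases Nat.even_or_odd (i ^ n) with ⟨k, hk⟩ | ⟨k, hk⟩
            · left; rw [hk, ← two_mul, pow_mul, pow_two, hdd, one_pow]
            · right; rw [hk, pow_succ, pow_mul, pow_two, hdd, one_pow, one_mul]
          rcases hdpow with hd' | hd' <;> simp [hd']
      rw [pow_succ', MulAut.mul_apply]
      rcases ih with h | h <;> rw [h]
      · exact e
      · rw [map_mul, hd]
        rcases e with h' | h' <;> rw [h']
        · exact Or.inr rfl
        · left; rw [mul_assoc, hdd, mul_one]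
  have hci : g ^ i = g := by
    refine pow_eq_of_pow_pow_eq hgm hr ?_
    have := hit r
    rw [hφ, MulAut.one_apply] at this
    rcases this with h | h <;>
    · have := congrArg Subtype.val h
      simp only [Subgroup.coe_mul, SubmonoidClass.coe_pow, c, d, D_pow, D_mul, D_inj,
        mul_one] at this
      exact this.1.symm
  have hcc : c ^ i = c := Subtype.ext (by
    show D g g⁻¹ ^ i = D g g⁻¹
    rw [D_pow, inv_pow, hci])
  have hc : φ c = c := by
    rcases hi with h | h <;> rw [hcc] at h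
    · exact h
    · refine fixed_of_sq_fixed hr hφ ?_
      rw [h, map_mul, hd, h, mul_assoc, hdd, mul_one]
  -- the image of `w`
  have hfixA : ∀ a b (h : Ok a b), φ ⟨D a b, hT.D_mem h⟩ = ⟨D a b, hT.D_mem h⟩ := by
    intro a b h
    obtain ⟨k, hk | hk | hk | hk⟩ :=
      hT.exists_gen g hgen c d w rfl rfl rfl ⟨D a b, hT.D_mem h⟩
    · rw [hk, map_pow, hc]
    · rw [hk, map_mul, map_pow, hc, hd]
    all_goals
      exfalso
      have := congrArg Subtype.val hk
      simp only [Subgroup.coe_mul, SubmonoidClass.coe_pow, c, d, w, D_pow, D_mul, D_mul_W] at this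
      have := congrFun (LinearEquiv.congr_fun this ![1, 0]) 0
      simp [D_apply, W_apply] at this
  have hw : φ w = w := by
    rcases (hT (φ w).1).1 (φ w).2 with ⟨a, b, h, e⟩ | ⟨a, b, h, e⟩
    · exfalso
      have h1 : φ w = ⟨D a b, hT.D_mem h⟩ := Subtype.ext e
      have := φ.injective (h1.trans (hfixA a b h).symm)
      have h2 : W 1 1 = D a b := congrArg Subtype.val this
      have := congrFun (LinearEquiv.congr_fun h2 ![1, 0]) 0
      simp [D_apply, W_apply] at this
      exact a.ne_zero this.symm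
    · refine fixed_of_translate hr hφ (hfixA b a h.symm) (x := w) (N := m) ?_ ?_
      · refine Subtype.ext (e.trans ?_)
        show W a b = D b a * W 1 1
        rw [D_mul_W]; simp
      · exact Subtype.ext (D_pow_two_pow hq b a)
  refine MulEquiv.ext fun x => ?_
  obtain ⟨k, rfl | rfl | rfl | rfl⟩ := hT.exists_gen g hgen c d w rfl rfl rfl x <;>
    simp [hc, hd, hw]

/-- The case `q = 3`: a dihedral group of order eight. -/
theorem IsT.trivial_three (T : Subgroup ((Fin 2 → ZMod 3) ≃ₗ[ZMod 3] (Fin 2 → ZMod 3)))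
    (hT : IsT T) {φ : MulAut T} {r : ℕ} (hr : Odd r) (hφ : φ ^ r = 1) : φ = 1 := by
  have hu : ∀ x : (ZMod 3)ˣ, x = 1 ∨ x = -1 := by decide
  have hneg : (-1 : (ZMod 3)ˣ) ≠ 1 := by decide
  let e : T := ⟨W 1 (-1), hT.W_mem (Or.inr (one_mul _))⟩
  let d : T := ⟨D 1 (-1), hT.D_mem (Or.inr (one_mul _))⟩
  have he2 : e * e = ⟨D (-1) (-1), hT.D_mem (Or.inl (by simp))⟩ := Subtype.ext (by
    show W 1 (-1) * W 1 (-1) = D (-1) (-1)
    rw [W_mul]; simp)
  have he4 : e ^ 2 ^ 2 = 1 := Subtype.ext (by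
    show W 1 (-1) ^ 4 = 1
    exact W_pow_four (Or.inr (one_mul _)))
  have hed : ∀ x : T, ∃ k : ℕ, x = e ^ k ∨ x = e ^ k * d := by
    intro x
    rcases (hT x.1).1 x.2 with ⟨a, b, h, hx⟩ | ⟨a, b, h, hx⟩ <;>
      rcases hu a with rfl | rfl <;> rcases hu b with rfl | rfl
    · exact ⟨0, Or.inl (Subtype.ext (hx.trans (by simp [D_one])))⟩
    · exact ⟨0, Or.inr (Subtype.ext (hx.trans (by simp [d])))⟩
    · exact ⟨2, Or.inr (Subtype.ext (hx.trans (by simp [d, e, pow_two, W_mul, D_mul])))⟩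
    · exact ⟨2, Or.inl (Subtype.ext (hx.trans (by simp [e, pow_two, W_mul])))⟩
    · exact ⟨1, Or.inr (Subtype.ext (hx.trans (by
        show W 1 1 = W 1 (-1) ^ 1 * D 1 (-1)
        refine LinearEquiv.ext fun v => ?_
        simp [D_apply, W_apply])))⟩
    · exact ⟨1, Or.inl (Subtype.ext (hx.trans (by simp [e])))⟩
    · exact ⟨3, Or.inl (Subtype.ext (hx.trans (by
        simp [e, pow_succ, W_mul, D_mul_W])))⟩
    · exact ⟨3, Or.inr (Subtype.ext (hx.trans (by
        show W (-1) (-1) = W 1 (-1) ^ 3 * D 1 (-1)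
        refine LinearEquiv.ext fun v => ?_
        simp [D_apply, W_apply, pow_succ])))⟩
  have he : φ e = e := by
    have hne : φ e * φ e ≠ 1 := fun h => by
      rw [← map_mul] at h
      have := φ.injective (h.trans (map_one φ).symm)
      rw [he2] at this
      exact hneg (D_inj.1 ((congrArg Subtype.val this).trans D_one.symm)).1
    rcases (hT (φ e).1).1 (φ e).2 with ⟨a, b, h, hx⟩ | ⟨a, b, h, hx⟩
    · refine absurd (Subtype.ext ?_) hne
      rw [Subgroup.coe_mul, hx, D_mul]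
      rcases hu a with rfl | rfl <;> rcases hu b with rfl | rfl <;> simp [D_one]
    · refine fixed_of_sq_fixed hr hφ ?_
      rcases hu a with rfl | rfl <;> rcases hu b with rfl | rfl
      · exact absurd (Subtype.ext (by rw [Subgroup.coe_mul, hx, W_mul]; simp [D_one])) hne
      · have : φ e = e := Subtype.ext hx
        rw [this, this]
      · have : φ e = e⁻¹ := by
          refine eq_inv_of_mul_eq_one_left (Subtype.ext ?_)
          rw [Subgroup.coe_mul, hx]
          show W (-1) 1 * W 1 (-1) = 1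
          rw [W_mul]; simp [D_one]
        rw [this, map_inv, this, inv_inv]
      · exact absurd (Subtype.ext (by rw [Subgroup.coe_mul, hx, W_mul]; simp [D_one])) hne
  have hd : φ d = d := by
    obtain ⟨k, hk | hk⟩ := hed (φ d)
    · exfalso
      have h1 : φ d = φ (e ^ k) := by rw [hk, map_pow, he]
      have hde : d = e ^ k := φ.injective h1
      have hcomm : d * e = e * d := by rw [hde]; exact ((Commute.refl e).pow_left k).eq
      have := congrFun (LinearEquiv.congr_fun (congrArg Subtype.val hcomm) ![1, 0]) 1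
      simp [D_apply, W_apply, d, e] at this
      exact absurd this (by decide)
    · refine fixed_of_translate hr hφ (a := e ^ k) (by rw [map_pow, he]) hk (N := 2) ?_
      rw [← pow_mul, mul_comm, pow_mul, he4, one_pow]
  refine MulEquiv.ext fun x => ?_
  obtain ⟨k, rfl | rfl⟩ := hed x <;> simp [he, hd]

end CfsgLib.MonomialT
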